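import Groth.Prelude.Def_W4c2conddiscmodels
import Mathlib.RingTheory.Coprime.Lemmas
import Mathlib.Algebra.BigOperators.Intervals
import Mathlib.Tactic.FieldSimp
import Mathlib.Tactic.LinearCombination
import Mathlib.Tactic.Linarith
import Mathlib.Algebra.Order.Ring.Rat
import Mathlib.RingTheory.Int.Basic

/-!
Hirzebruch–Jung chains: continuants and the linear recurrence.
-/

namespace Groth.Agent.HJLin

/-- Numerator and denominator of a Hirzebruch–Jung fraction. -/
def cont : List ℤ → ℤ × ℤ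
  | [] => (1, 0)
  | b :: l => (b * (cont l).1 - (cont l).2, (cont l).1)

theorem cont_props : ∀ (L : List ℤ), (∀ x ∈ L, (2 : ℤ) ≤ x) →
    0 ≤ (cont L).2 ∧ (cont L).2 < (cont L).1 ∧ IsCoprime (cont L).1 (cont L).2 ∧
      (HJFrac.hjVal L)⁻¹ = ((cont L).2 : ℚ) / (cont L).1 := by
  intro L
  induction L with
  | nil => intro _; exact ⟨le_rfl, by simp [cont], isCoprime_one_left, by simp [cont, HJFrac.hjVal]⟩
  | cons b L ih =>
    intro h
    obtain ⟨h0, h1, hc, hv⟩ := ih fun x hx => h x (List.mem_cons_of_mem _ hx)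
    have hb : 2 ≤ b := h b (List.mem_cons_self ..)
    simp only [cont]
    refine ⟨by omega, by nlinarith, ?_, ?_⟩
    · obtain ⟨u, v, huv⟩ := hc
      exact ⟨-v, u + v * b, by linear_combination huv⟩
    · have hpos : (0 : ℚ) < (cont L).1 := by exact_mod_cast lt_of_le_of_lt h0 h1
      rw [HJFrac.hjVal, hv]
      push_cast
      rw [sub_div' hpos.ne', inv_div]

theorem map_range_succ (b : ℕ → ℤ) (l : ℕ) :
    ((List.range (l + 1)).map fun i => b (i + 1)) = b 1 :: (List.range l).map fun i => b (i + 1 + 1) := by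
  rw [List.range_succ_eq_map, List.map_cons, List.map_map]
  rfl

/-- The continuant relates the first two and the last term of a solution of the recurrence. -/
theorem cont_mul : ∀ (l : ℕ) (b μ : ℕ → ℤ), (∀ i, 1 ≤ i → i ≤ l → b i * μ i = μ (i - 1) + μ (i + 1)) →
    (cont ((List.range l).map fun i => b (i + 1))).1 * μ 1 =
      (cont ((List.range l).map fun i => b (i + 1))).2 * μ 0 + μ (l + 1) := by
  intro l
  induction l with
  | zero => intro b μ _; simp [cont]
  | succ l ih =>
    intro b μ h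
    have h' := ih (fun i => b (i + 1)) (fun i => μ (i + 1)) fun i h1 h2 => by
      have := h (i + 1) (by omega) (by omega)
      rw [show i - 1 + 1 = i + 1 - 1 by omega]
      exact this
    have h1 := h 1 le_rfl (by omega)
    rw [map_range_succ]
    simp only [cont] at h' ⊢
    simp only [zero_add, Nat.sub_self] at h' h1
    linear_combination h' + (cont ((List.range l).map fun i => b (i + 1 + 1))).1 * h1

/-- The telescoping sum attached to a positive solution. -/
theorem cont_sum : ∀ (l : ℕ) (b μ : ℕ → ℤ), (∀ i, 1 ≤ i → i ≤ l → b i * μ i = μ (i - 1) + μ (i + 1)) →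
    (∀ i, i ≤ l + 1 → 0 < μ i) →
    ((cont ((List.range l).map fun i => b (i + 1))).1 : ℚ) / (μ 0 * μ (l + 1)) =
      ∑ i ∈ Finset.range (l + 1), 1 / ((μ i : ℚ) * (μ (i + 1) : ℚ)) := by
  intro l
  induction l with
  | zero => intro b μ _ _; simp [cont]
  | succ l ih =>
    intro b μ h hpos
    have hh : ∀ i, 1 ≤ i → i ≤ l → b (i + 1) * μ (i + 1) = μ (i - 1 + 1) + μ (i + 1 + 1) := fun i h1 h2 => by
      have := h (i + 1) (by omega) (by omega)
      rw [show i - 1 + 1 = i + 1 - 1 by omega]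
      exact this
    have h' := ih (fun i => b (i + 1)) (fun i => μ (i + 1)) hh fun i hi => hpos (i + 1) (by omega)
    have hm := cont_mul (l + 1) b μ h
    rw [map_range_succ] at hm ⊢
    rw [Finset.sum_range_succ' _ (l + 1), ← h']
    simp only [cont] at hm ⊢
    have p0 : (μ 0 : ℚ) ≠ 0 := by exact_mod_cast (hpos 0 (by omega)).ne'
    have p1 : (μ 1 : ℚ) ≠ 0 := by exact_mod_cast (hpos 1 (by omega)).ne'
    have p2 : (μ (l + 1 + 1) : ℚ) ≠ 0 := by exact_mod_cast (hpos (l + 1 + 1) le_rfl).ne'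
    have hq := congrArg (fun z : ℤ => (z : ℚ)) hm
    push_cast at hq ⊢
    field_simp
    linear_combination hq

/-- The numerator is recovered from the value. -/
theorem fst_eq (L : List ℤ) (hL : L ≠ []) (h : ∀ x ∈ L, (2 : ℤ) ≤ x) (n r : ℕ) (hr : 0 < r)
    (hcop : Nat.Coprime r n) (hval : (n : ℚ) / r = HJFrac.hjVal L) : (cont L).1 = n := by
  obtain ⟨h0, h1, hc, hv⟩ := cont_props L h
  have hq : (n : ℤ) * (cont L).2 = (cont L).1 * r := by
    rw [← hval, inv_div] at hv
    have hn : (n : ℚ) ≠ 0 := by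
      intro hn
      rw [hn, div_zero, eq_comm, div_eq_zero_iff] at hv
      obtain ⟨b, l, rfl⟩ := List.exists_cons_of_ne_nil hL
      simp only [cont] at hv h0 h1
      obtain ⟨h0', h1', -, -⟩ := cont_props l fun x hx => h x (List.mem_cons_of_mem _ hx)
      rcases hv with hv | hv <;> norm_cast at hv <;> omega
    have h1q : ((cont L).1 : ℚ) ≠ 0 := by exact_mod_cast (lt_of_le_of_lt h0 h1).ne'
    rw [div_eq_div_iff hn h1q] at hv
    have : ((n : ℤ) * (cont L).2 : ℚ) = ((cont L).1 * (r : ℤ) : ℚ) := by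
      push_cast
      linear_combination -hv
    exact_mod_cast this
  have hcop' : IsCoprime (n : ℤ) (r : ℤ) := Int.isCoprime_iff_nat_coprime.2 (by simpa using hcop.symm)
  exact Int.dvd_antisymm (lt_of_le_of_lt h0 h1).le (Int.natCast_nonneg n)
    (hc.dvd_of_dvd_mul_right ⟨r, hq⟩) (hcop'.dvd_of_dvd_mul_right ⟨(cont L).2, hq.symm⟩)

end Groth.Agent.HJLin
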